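import Groth.Agent.Vancyc.H694.Origin

/-!
# The point of the even model moved to the origin
-/

set_option autoImplicit false
universe u
open CategoryTheory CategoryTheory.Limits AlgebraicGeometry IsLocalRing VanCyc MvPolynomial

namespace Groth.Agent.Lefpen.H479.Normalize

open Groth.Agent.Vancyc.H694.StdT Groth.Agent.Vancyc.H694.Origin Groth.Agent.Vancyc.H686.NormalForm

section Trans

variable {R : Type u} [CommRing R] {n : ℕ}

/-- `X₀ ↦ X₀ + s`. -/
noncomputable def trHom (s : R) : MvPolynomial (Fin (n + 1)) R →ₐ[R] MvPolynomial (Fin (n + 1)) R :=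
  aeval (Fin.cases (X 0 + C s) (fun i : Fin n => X i.succ))

lemma trHom_zero (s : R) : trHom (n := n) s (X 0) = X 0 + C s := by
  rw [trHom, aeval_X]
  rfl

lemma trHom_succ (s : R) (i : Fin n) : trHom (n := n) s (X i.succ) = X i.succ := by
  rw [trHom, aeval_X]
  rfl

lemma trHom_C (s r : R) : trHom (n := n) s (C r) = C r := (trHom s).commutes r

lemma trHom_comp (s t : R) (h : s + t = 0) :
    (trHom (n := n) s).comp (trHom t) = AlgHom.id R _ := by
  apply MvPolynomial.algHom_ext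
  intro i
  refine Fin.cases ?_ (fun i => ?_) i
  · rw [AlgHom.comp_apply, trHom_zero, map_add, trHom_zero, trHom_C, add_assoc, ← C_add, h, C_0,
      add_zero, AlgHom.id_apply]
  · rw [AlgHom.comp_apply, trHom_succ, trHom_succ, AlgHom.id_apply]

/-- The translation. -/
noncomputable def trEquiv (s : R) : MvPolynomial (Fin (n + 1)) R ≃ₐ[R] MvPolynomial (Fin (n + 1)) R :=
  AlgEquiv.ofAlgHom (trHom s) (trHom (-s)) (trHom_comp _ _ (by ring)) (trHom_comp _ _ (by ring))

lemma trHom_rename (s : R) (p : MvPolynomial (Fin n) R) :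
    trHom s (rename Fin.succ p) = rename Fin.succ p := by
  have h : (trHom (n := n) s).comp (rename Fin.succ) = rename Fin.succ := by
    apply MvPolynomial.algHom_ext
    intro i
    rw [AlgHom.comp_apply, rename_X, trHom_succ]
  exact DFunLike.congr_fun h p

end Trans

section Model

variable {R : Type u} [CommRing R] {m : ℕ}

lemma trHom_degQuadPoly (a : Fin (2 * m) → Fin (2 * m) → R) (b c s : R) :
    trHom s (degQuadPoly R a b c) = degQuadPoly R a (2 * s + b) (s ^ 2 + b * s + c) := by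
  unfold degQuadPoly
  simp only [map_add, map_mul, map_pow, trHom_zero, trHom_C, trHom_rename]
  simp only [map_ofNat]
  ring

/-- The isomorphism of the models. -/
noncomputable def modEquiv (a : Fin (2 * m) → Fin (2 * m) → R) (b c s : R) :
    degQuadRing R a b c ≃ₐ[R] degQuadRing R a (2 * s + b) (s ^ 2 + b * s + c) :=
  quotEquiv (trEquiv s) _ _ (trHom_degQuadPoly a b c s)

end Model

theorem hasCommonEt_comp {S X Y Y' : Scheme.{u}} {f : X ⟶ S} {g : Y ⟶ S} {x : X} {y : Y}
    (h : HasCommonEt f g x y) (g' : Y' ⟶ S) (e : Y ⟶ Y') [IsIso e] (he : e ≫ g' = g) :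
    HasCommonEt f g' x (e y) := by
  obtain ⟨U, p, q, z, h1, h2, h3, h4, h5⟩ := h
  refine ⟨U, p, q ≫ e, z, h1, inferInstance, ?_, h4, ?_⟩
  · rw [h3, Category.assoc, he]
  · rw [Scheme.Hom.comp_apply, h5]

section Side

variable {R : Type u} [CommRing R] [IsLocalRing R] {m : ℕ} {a : Fin (2 * m) → Fin (2 * m) → R} {b c : R}
  {P : Ideal (degQuadRing R a b c)} [P.IsPrime] (hP : sideIdeal R a b c ≤ P)

include hP

omit [P.IsPrime] in
lemma C_mem {r : R} (hr : r ∈ maximalIdeal R) : Ideal.Quotient.mk _ (C r) ∈ P :=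
  hP (Ideal.mem_map_of_mem _ (Ideal.mem_sup_left (Ideal.mem_map_of_mem _ hr)))

omit [P.IsPrime] in
lemma succ_mem (i : Fin (2 * m)) : Ideal.Quotient.mk _ (X i.succ) ∈ P :=
  hP (Ideal.mem_map_of_mem _ (Ideal.mem_sup_right (Ideal.subset_span ⟨i, rfl⟩)))

omit [P.IsPrime] in
lemma quad_mem : Ideal.Quotient.mk _ (rename Fin.succ (quadPoly a)) ∈ P := by
  unfold quadPoly
  rw [map_sum, map_sum]
  refine Ideal.sum_mem _ fun i _ => ?_
  rw [map_sum, map_sum]
  refine Ideal.sum_mem _ fun j _ => ?_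
  split_ifs
  · rw [map_mul, rename_X, map_mul]
    exact Ideal.mul_mem_left _ _ (succ_mem hP j)
  · rw [map_zero, map_zero]
    exact Ideal.zero_mem _

omit [P.IsPrime] in
lemma rel_mem : (Ideal.Quotient.mk _ (X 0) : degQuadRing R a b c) ^ 2 +
    Ideal.Quotient.mk _ (C b) * Ideal.Quotient.mk _ (X 0) + Ideal.Quotient.mk _ (C c) ∈ P := by
  have h0 : (Ideal.Quotient.mk (Ideal.span {degQuadPoly R a b c})) (degQuadPoly R a b c) = 0 :=
    Ideal.Quotient.eq_zero_iff_mem.2 (Ideal.mem_span_singleton_self _)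
  have h1 := quad_mem hP
  have h2 : (Ideal.Quotient.mk _ (X 0) : degQuadRing R a b c) ^ 2 +
      Ideal.Quotient.mk _ (C b) * Ideal.Quotient.mk _ (X 0) + Ideal.Quotient.mk _ (C c) =
      - Ideal.Quotient.mk _ (rename Fin.succ (quadPoly a)) := by
    rw [← sub_eq_zero, sub_neg_eq_add, ← h0]
    unfold degQuadPoly
    simp only [map_add, map_mul, map_pow]
  rw [h2]
  exact P.neg_mem h1

/-- A point over the side ideal containing `X₀ - s`, `s² + b s + c ∈ 𝔪`. -/
lemma sub_mem (hb : b ∈ maximalIdeal R) (h2 : (2 : R) ∈ maximalIdeal R) {s : R}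
    (hs : s ^ 2 + c ∈ maximalIdeal R) :
    (Ideal.Quotient.mk _ (X 0 - C s) : degQuadRing R a b c) ∈ P := by
  have h3 := rel_mem hP
  have h4 := C_mem hP hb
  have h5 := C_mem hP h2
  have h6 := C_mem hP hs
  apply Ideal.IsPrime.mem_of_pow_mem inferInstance 2
  have h7 : (Ideal.Quotient.mk _ (X 0 - C s) : degQuadRing R a b c) ^ 2 =
      ((Ideal.Quotient.mk _ (X 0) : degQuadRing R a b c) ^ 2 +
        Ideal.Quotient.mk _ (C b) * Ideal.Quotient.mk _ (X 0) + Ideal.Quotient.mk _ (C c)) -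
      Ideal.Quotient.mk _ (C b) * Ideal.Quotient.mk _ (X 0) -
      Ideal.Quotient.mk _ (C 2) * (Ideal.Quotient.mk _ (C s) * Ideal.Quotient.mk _ (X 0)) +
      Ideal.Quotient.mk _ (C (s ^ 2 + c)) - Ideal.Quotient.mk _ (C 2) * Ideal.Quotient.mk _ (C c) := by
    simp only [← map_mul, ← map_add, ← map_pow, ← map_sub]
    congr 1
    simp only [map_add, map_mul, map_pow, map_ofNat]
    ring
  rw [h7]
  refine Ideal.sub_mem _ (Ideal.add_mem _ (Ideal.sub_mem _ (Ideal.sub_mem _ h3 ?_) ?_) h6) ?_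
  · exact Ideal.mul_mem_right _ _ h4
  · exact Ideal.mul_mem_right _ _ h5
  · exact Ideal.mul_mem_right _ _ h5

omit [P.IsPrime] in
/-- A prime over the side ideal containing `X₀` is the origin. -/
lemma eq_origQ (hne : P ≠ ⊤) (hc : c ∈ maximalIdeal R) (h0 : Ideal.Quotient.mk _ (X 0) ∈ P) :
    P = origQ (degQuadPoly R a b c) := by
  have h1 := isMaximal_origQ (F := degQuadPoly R a b c) (by
    rw [constantCoeff_degQuadPoly]
    exact hc)
  symm
  refine h1.eq_of_le hne ?_
  rw [origQ, Ideal.map_le_iff_le_comap]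
  refine sup_le ?_ ?_
  · rw [Ideal.map_le_iff_le_comap]
    intro r hr
    rw [Ideal.mem_comap, Ideal.mem_comap]
    exact hP (Ideal.mem_map_of_mem _ (Ideal.mem_sup_left (Ideal.mem_map_of_mem _ hr)))
  · rw [Ideal.span_le]
    rintro _ ⟨i, rfl⟩
    rw [SetLike.mem_coe, Ideal.mem_comap]
    refine Fin.cases ?_ (fun i => ?_) i
    · exact h0
    · exact hP (Ideal.mem_map_of_mem _ (Ideal.mem_sup_right (Ideal.subset_span ⟨i, rfl⟩)))

end Side

/-- (N) -/
theorem normalize (R : Type u) [CommRing R] [IsLocalRing R] [IsAlgClosed (ResidueField R)]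
    {X : Scheme.{u}} (f : X ⟶ Spec (CommRingCat.of R)) (x : X) (m : ℕ) (b c : R)
    (hb : b ∈ maximalIdeal R)
    (h : (b = 0 ∧ c ∈ maximalIdeal R ∧ IsUnit (2 : R)) ∨ (2 : R) ∈ maximalIdeal R)
    (y : Spec (CommRingCat.of (degQuadRing R (stdT R m) b c)))
    (hy : sideIdeal R (stdT R m) b c ≤ PrimeSpectrum.asIdeal y)
    (hce : HasCommonEt f (modelEven R m b c) x y) :
    ∃ b' c' : R, b' ∈ maximalIdeal R ∧ c' ∈ maximalIdeal R ∧ b' ^ 2 - 4 * c' = b ^ 2 - 4 * c ∧
      ((b' = 0 ∧ IsUnit (2 : R)) ∨ (2 : R) ∈ maximalIdeal R) ∧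
      ∃ y' : Spec (CommRingCat.of (degQuadRing R (stdT R m) b' c')),
        PrimeSpectrum.asIdeal y' = origQ (degQuadPoly R (stdT R m) b' c') ∧
        HasCommonEt f (modelEven R m b' c') x y' := by
  rcases h with ⟨rfl, hc, h2⟩ | h2
  · refine ⟨0, c, hb, hc, rfl, Or.inl ⟨rfl, h2⟩, y, ?_, hce⟩
    have hyp : (PrimeSpectrum.asIdeal y).IsPrime := PrimeSpectrum.isPrime y
    refine eq_origQ hy hyp.ne_top hc ?_
    apply hyp.mem_of_pow_mem 2
    have h3 := rel_mem hy
    rw [map_zero, map_zero, zero_mul, add_zero] at h3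
    have h4 := C_mem hy hc
    have h5 := Ideal.sub_mem _ h3 h4
    rwa [add_sub_cancel_right] at h5
  · obtain ⟨s', hs'⟩ := IsAlgClosed.exists_pow_nat_eq (-(residue R c)) (n := 2) (by norm_num)
    obtain ⟨s, rfl⟩ := residue_surjective s'
    have hs : s ^ 2 + c ∈ maximalIdeal R := by
      rw [← residue_eq_zero_iff, map_add, map_pow, hs', neg_add_cancel]
    have hb' : 2 * s + b ∈ maximalIdeal R := Ideal.add_mem _ (Ideal.mul_mem_right _ _ h2) hb
    have hc' : s ^ 2 + b * s + c ∈ maximalIdeal R := by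
      have : s ^ 2 + b * s + c = (s ^ 2 + c) + b * s := by ring
      rw [this]
      exact Ideal.add_mem _ hs (Ideal.mul_mem_right _ _ hb)
    let E := modEquiv (stdT R m) b c s
    let e : Spec (CommRingCat.of (degQuadRing R (stdT R m) b c)) ⟶
        Spec (CommRingCat.of (degQuadRing R (stdT R m) (2 * s + b) (s ^ 2 + b * s + c))) :=
      Spec.map (CommRingCat.ofHom (E.symm : _ →+* _))
    have hiso : IsIso (CommRingCat.ofHom (E.symm : degQuadRing R (stdT R m) (2 * s + b) (s ^ 2 + b * s + c) →+*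
        degQuadRing R (stdT R m) b c)) :=
      (inferInstance : IsIso (E.symm.toRingEquiv.toCommRingCatIso).hom)
    have he : IsIso e := inferInstance
    have hec : e ≫ modelEven R m (2 * s + b) (s ^ 2 + b * s + c) = modelEven R m b c := by
      change Spec.map _ ≫ Spec.map _ = Spec.map _
      rw [← Spec.map_comp, ← CommRingCat.ofHom_comp]
      congr 2
      ext r
      exact E.symm.commutes r
    refine ⟨2 * s + b, s ^ 2 + b * s + c, hb', hc', by ring, Or.inr h2, e y, ?_,
      hasCommonEt_comp hce _ e hec⟩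
    have hyp : (PrimeSpectrum.asIdeal y).IsPrime := PrimeSpectrum.isPrime y
    have hP : PrimeSpectrum.asIdeal (e y) = (PrimeSpectrum.asIdeal y).comap
      (E.symm : degQuadRing R (stdT R m) (2 * s + b) (s ^ 2 + b * s + c) →+*
        degQuadRing R (stdT R m) b c) := rfl
    rw [hP]
    have hX : ∀ i, E.symm (Ideal.Quotient.mk _ (MvPolynomial.X i)) =
        Ideal.Quotient.mk _ (trHom (-s) (MvPolynomial.X i)) := fun i => rfl
    have hside : sideIdeal R (stdT R m) (2 * s + b) (s ^ 2 + b * s + c) ≤ (PrimeSpectrum.asIdeal y).comap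
        (E.symm : degQuadRing R (stdT R m) (2 * s + b) (s ^ 2 + b * s + c) →+*
          degQuadRing R (stdT R m) b c) := by
      rw [sideIdeal, Ideal.map_le_iff_le_comap]
      refine sup_le ?_ ?_
      · rw [Ideal.map_le_iff_le_comap]
        intro r hr
        rw [Ideal.mem_comap, Ideal.mem_comap, Ideal.mem_comap]
        have h3 : E.symm (Ideal.Quotient.mk _ (C r)) = Ideal.Quotient.mk _ (C r) := E.symm.commutes r
        change E.symm _ ∈ _
        rw [h3]
        exact C_mem hy hr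
      · rw [Ideal.span_le]
        rintro _ ⟨i, rfl⟩
        rw [SetLike.mem_coe, Ideal.mem_comap, Ideal.mem_comap]
        change E.symm _ ∈ _
        rw [hX, trHom_succ]
        exact succ_mem hy i
    refine eq_origQ hside (Ideal.comap_ne_top _ hyp.ne_top) hc' ?_
    rw [Ideal.mem_comap]
    change E.symm _ ∈ _
    rw [hX, trHom_zero, map_neg, ← sub_eq_add_neg]
    exact sub_mem hy hb h2 hs

end Groth.Agent.Lefpen.H479.Normalize
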